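import Groth.Prelude.Def_DerSch
import Groth.Agent.L29.RelPC.TorStalk
import Groth.Agent.L19.PerfectHom
import Groth.Agent.L10.DRing.TorDim
import Groth.Agent.L22.WeakAssPoints
import Mathlib.AlgebraicGeometry.Morphisms.Smooth
import Mathlib.AlgebraicGeometry.Morphisms.ClosedImmersion

/-!
# Factoring a map of finite Tor dimension through a polynomial ring
-/

set_option autoImplicit false
set_option backward.isDefEq.respectTransparency false
set_option backward.isDefEq.respectTransparency.types false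

universe u

open CategoryTheory CategoryTheory.Limits AlgebraicGeometry

attribute [local instance] HasDerivedCategory.standard

noncomputable section

namespace Groth.L16.FiniteTorFactor

variable {X Y : Scheme.{u}} (f : X ⟶ Y)

/-- The stalk of the structure sheaf over the base. -/
def unitIso (x : X) :
    letI := (f.stalkMap x).hom.toAlgebra
    DRing.toD ((DerSch.stalkCxOver f x).obj (DerSch.unitCx X)) ≅
      Dual.inD (Y.presheaf.stalk (f x)) (X.presheaf.stalk x) :=
  letI := (f.stalkMap x).hom.toAlgebra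
  let σ : X.presheaf.stalk x ≃ₗ[X.presheaf.stalk x] (Coh.structureModule X).presheaf.stalk x :=
    LinearEquiv.ofBijective
      (LinearMap.toSpanSingleton (X.presheaf.stalk x) ((Coh.structureModule X).presheaf.stalk x)
        (Groth.L22.oneGerm x))
      ⟨(injective_iff_map_eq_zero _).2 fun a ha => Groth.L22.eq_zero_of_smul_oneGerm ha,
        Groth.L22.stalk_smul_oneGerm_surjective x⟩
  let e₁ : (DerSch.stalkOver f x).obj (Coh.structureModule X) ≅
      ModuleCat.of (Y.presheaf.stalk (f x)) (X.presheaf.stalk x) :=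
    LinearEquiv.toModuleIso (X₁ := ((DerSch.stalkOver f x).obj (Coh.structureModule X) : Type u))
      { σ.symm.toAddEquiv with
        map_smul' := fun a m => σ.symm.map_smul ((f.stalkMap x).hom a)
          (show (Coh.structureModule X).presheaf.stalk x from m) }
  DerivedCategory.Q.mapIso ((HomologicalComplex.singleMapHomologicalComplex (DerSch.stalkOver f x) (ComplexShape.up ℤ) 0).app
      (Coh.structureModule X)) ≪≫
    ((DerivedCategory.singleFunctorIsoCompQ (ModuleCat.{u} (Y.presheaf.stalk (f x))) 0).symm.app _) ≪≫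
    (DerivedCategory.singleFunctor _ 0).mapIso e₁

/-- Finite Tor dimension gives a bound on the stalks. -/
theorem exists_td (hf : DerSch.HasFiniteTorDim f) : ∃ d : ℕ, ∀ x, Groth.L29.RelPC.TD f d x := by
  obtain ⟨a, b, h⟩ := hf
  refine ⟨(-a).toNat, fun x => ?_⟩
  letI := (f.stalkMap x).hom.toAlgebra
  let R := projectiveResolution (ModuleCat.of (Y.presheaf.stalk (f x)) (X.presheaf.stalk x))
  obtain ⟨e⟩ := Groth.L10.DR.res_toD R
  have hx := Groth.L10.DR.amp_of_iso (unitIso f x) (h x)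
  refine (Groth.L10.DR.hasTorDimLE_iff_amp _).2 ?_
  rw [Groth.L10.DR.amp_iff e (Groth.L10.DR.res_vanishesAbove R) (Groth.L10.DR.res_flat R)] at hx ⊢
  exact ⟨fun i hi => hx.1 i (by omega), Groth.L10.DR.LEH_inD _⟩

/-- Bounded Tor dimension on stalks gives finite Tor dimension. -/
theorem hasFiniteTorDim_of_td {d : ℕ} (h : ∀ x, Groth.L29.RelPC.TD f d x) : DerSch.HasFiniteTorDim f := by
  refine ⟨-(d : ℤ), 0, fun x => ?_⟩
  letI := (f.stalkMap x).hom.toAlgebra
  exact Groth.L10.DR.amp_of_iso (unitIso f x).symm ((Groth.L10.DR.hasTorDimLE_iff_amp d).1 (h x))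

/-- The factorisation over affine opens. -/
theorem exists_factor [LocallyOfFiniteType f] (hf : DerSch.HasFiniteTorDim f) (U : X.Opens) (hU : IsAffineOpen U)
    (V : Y.Opens) (hV : IsAffineOpen V) (hUV : U ≤ f ⁻¹ᵁ V) :
    ∃ (W : Scheme.{u}) (g : (U : Scheme.{u}) ⟶ W) (h : W ⟶ Y),
      IsClosedImmersion g ∧ DerSch.HasFiniteTorDim g ∧ Smooth h ∧ g ≫ h = U.ι ≫ f := by
  obtain ⟨d, hd⟩ := exists_td f hf
  letI := (f.appLE V U hUV).hom.toAlgebra
  have hTD : DRing.HasTorDimLE Γ(Y, V) d Γ(X, U) := Groth.L29.RelPC.hom_of_td hU hV hUV fun x _ => hd x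
  have hft : Algebra.FiniteType Γ(Y, V) Γ(X, U) := f.finiteType_appLE hV hU hUV
  obtain ⟨m, φ, hφ⟩ := Algebra.FiniteType.iff_quotient_mvPolynomial''.1 hft
  let P := MvPolynomial (Fin m) Γ(Y, V)
  letI : Algebra P Γ(X, U) := φ.toRingHom.toAlgebra
  haveI : IsScalarTower Γ(Y, V) P Γ(X, U) := .of_algebraMap_eq' φ.comp_algebraMap.symm
  have hP : DRing.HasTorDimLE P (d + m) Γ(X, U) := (Groth.L10.DR.hasTorDimLE_iff_amp _).2
    (Groth.L19.PerfectHom.amp_mvPolynomial m _ d ((Groth.L10.DR.hasTorDimLE_iff_amp d).1 hTD))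
  let φ' : CommRingCat.of P ⟶ Γ(X, U) := CommRingCat.ofHom φ.toRingHom
  let g : (U : Scheme.{u}) ⟶ Spec (CommRingCat.of P) := hU.isoSpec.hom ≫ Spec.map φ'
  let h : Spec (CommRingCat.of P) ⟶ Y := Spec.map (CommRingCat.ofHom (algebraMap Γ(Y, V) P)) ≫ hV.fromSpec
  refine ⟨_, g, h, ?_, ?_, ?_, ?_⟩
  · haveI : IsClosedImmersion (Spec.map φ') := IsClosedImmersion.spec_of_surjective _ hφ
    exact inferInstance
  · haveI : IsAffine U.toScheme := hU
    let e : (U.toScheme.presheaf.obj (.op (⊤ : U.toScheme.Opens))) ≅ Γ(X, U) := U.topIso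
    have hg : g.appLE ⊤ ⊤ le_top = (Scheme.ΓSpecIso (CommRingCat.of P)).hom ≫ φ' ≫ e.inv := by
      have h0 : g.appLE ⊤ ⊤ le_top = g.appTop := (g.app_eq_appLE (U := ⊤)).symm
      rw [h0, Scheme.Hom.comp_appTop, IsAffineOpen.isoSpec_hom_appTop,
        Scheme.ΓSpecIso_naturality_assoc φ']
    letI : Algebra P (U.toScheme.presheaf.obj (.op (⊤ : U.toScheme.Opens))) := (φ' ≫ e.inv).hom.toAlgebra
    have hP' : DRing.HasTorDimLE P (d + m) (U.toScheme.presheaf.obj (.op (⊤ : U.toScheme.Opens))) :=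
      Groth.L29.RelPC.hasTorDimLE_congr
        ({ e.symm.commRingCatIsoToRingEquiv.toAddEquiv with
            map_smul' := fun c x => by
              simp only [Algebra.smul_def, RingHom.algebraMap_toAlgebra]
              exact map_mul e.symm.commRingCatIsoToRingEquiv _ _ } :
          Γ(X, U) ≃ₗ[P] (U.toScheme.presheaf.obj (.op (⊤ : U.toScheme.Opens)))) hP
    refine hasFiniteTorDim_of_td g (d := d + m) fun x =>
      Groth.L29.RelPC.td_of_hom (isAffineOpen_top _) (isAffineOpen_top _) (le_top : (⊤ : U.toScheme.Opens) ≤ g ⁻¹ᵁ ⊤)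
        ?_ (Set.mem_univ x)
    letI := (g.appLE ⊤ ⊤ le_top).hom.toAlgebra
    letI : Algebra P Γ(Spec (CommRingCat.of P), ⊤) := (Scheme.ΓSpecIso (CommRingCat.of P)).inv.hom.toAlgebra
    haveI : IsScalarTower P Γ(Spec (CommRingCat.of P), ⊤) (U.toScheme.presheaf.obj (.op (⊤ : U.toScheme.Opens))) :=
      .of_algebraMap_eq fun c => by
        change (φ' ≫ e.inv).hom c = ((Scheme.ΓSpecIso (CommRingCat.of P)).inv ≫ g.appLE ⊤ ⊤ le_top).hom c
        rw [hg, Iso.inv_hom_id_assoc]
    haveI : IsLocalization (⊥ : Submonoid P) Γ(Spec (CommRingCat.of P), ⊤) :=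
      IsLocalization.of_le_isUnit_of_bijective
        (by rintro _ ⟨y, hy, rfl⟩; rw [Submonoid.mem_bot.1 hy, map_one]; exact one_mem _)
        (Scheme.ΓSpecIso (CommRingCat.of P)).symm.commRingCatIsoToRingEquiv.bijective
    exact (Groth.L29.RelPC.hasTorDimLE_localization_iff (⊥ : Submonoid P) _).1 hP'
  · haveI : Smooth (Spec.map (CommRingCat.ofHom (algebraMap Γ(Y, V) P))) := by
      rw [HasRingHomProperty.Spec_iff (P := @Smooth)]
      exact RingHom.smooth_algebraMap.2
        (⟨inferInstance, inferInstance⟩ : Algebra.Smooth Γ(Y, V) P)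
    exact MorphismProperty.comp_mem _ _ _ this inferInstance
  · have e : CommRingCat.ofHom (algebraMap Γ(Y, V) P) ≫ φ' = f.appLE V U hUV :=
      CommRingCat.hom_ext φ.comp_algebraMap
    simp only [g, h, Category.assoc]
    rw [← Spec.map_comp_assoc, e, IsAffineOpen.SpecMap_appLE_fromSpec f hV hU hUV,
      IsAffineOpen.isoSpec_hom_fromSpec_assoc]

end Groth.L16.FiniteTorFactor
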